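import Mathlib.Algebra.Homology.HomotopyCategory.Plus
import Mathlib.CategoryTheory.Functor.Derived.Adjunction
import Mathlib.CategoryTheory.Functor.Derived.PointwiseLeftDerived
import Mathlib.CategoryTheory.Functor.Derived.PointwiseRightDerived
import Mathlib.CategoryTheory.Localization.DerivabilityStructure.Derives

/-! Adjunctions on complexes and on derived categories. -/

set_option autoImplicit false
universe v u v' u' v₁ v₂ v₃ v₄ u₁ u₂ u₃ u₄ u₅ v₅

namespace Groth.Agent.DerAdj43

open CategoryTheory CategoryTheory.Limits

variable {A : Type u} [Category.{v} A] [Preadditive A] {B : Type u'} [Category.{v'} B] [Preadditive B]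
  {L : A ⥤ B} {R : B ⥤ A} (adj : L ⊣ R) [L.Additive] [R.Additive]
  {ι : Type*} (c : ComplexShape ι)

/-- The adjunction on complexes induced by an adjunction of additive functors. -/
@[simps]
def complexAdj : L.mapHomologicalComplex c ⊣ R.mapHomologicalComplex c where
  unit :=
    { app := fun K => { f := fun i => adj.unit.app (K.X i)
                        comm' := fun i j _ => (adj.unit.naturality (K.d i j)).symm }
      naturality := fun _ _ f => by ext i; exact adj.unit.naturality (f.f i) }
  counit :=
    { app := fun K => { f := fun i => adj.counit.app (K.X i)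
                        comm' := fun i j _ => (adj.counit.naturality (K.d i j)).symm }
      naturality := fun _ _ f => by ext i; exact adj.counit.naturality (f.f i) }
  left_triangle_components K := by ext i; exact adj.left_triangle_components (K.X i)
  right_triangle_components K := by ext i; exact adj.right_triangle_components (K.X i)

/-- The adjunction on homotopy categories induced by an adjunction of additive functors. -/
def homotopyAdj : L.mapHomotopyCategory c ⊣ R.mapHomotopyCategory c where
  unit :=
    { app := fun K => (HomotopyCategory.quotient A c).map ((complexAdj adj c).unit.app K.as)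
      naturality := fun K K' f => by
        obtain ⟨g, rfl⟩ := (HomotopyCategory.quotient A c).map_surjective
          (X := K.as) (Y := K'.as) f
        change (HomotopyCategory.quotient A c).map g ≫ (HomotopyCategory.quotient A c).map _ =
          (HomotopyCategory.quotient A c).map _ ≫
            (HomotopyCategory.quotient A c).map ((R.mapHomologicalComplex c).map ((L.mapHomologicalComplex c).map g))
        rw [← Functor.map_comp, ← Functor.map_comp]
        exact congrArg _ ((complexAdj adj c).unit.naturality g) }
  counit :=
    { app := fun K => (HomotopyCategory.quotient B c).map ((complexAdj adj c).counit.app K.as)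
      naturality := fun K K' f => by
        obtain ⟨g, rfl⟩ := (HomotopyCategory.quotient B c).map_surjective
          (X := K.as) (Y := K'.as) f
        change (HomotopyCategory.quotient B c).map ((L.mapHomologicalComplex c).map ((R.mapHomologicalComplex c).map g)) ≫
            (HomotopyCategory.quotient B c).map _ =
          (HomotopyCategory.quotient B c).map _ ≫ (HomotopyCategory.quotient B c).map g
        rw [← Functor.map_comp, ← Functor.map_comp]
        exact congrArg _ ((complexAdj adj c).counit.naturality g) }
  left_triangle_components K :=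
    ((Functor.map_comp (HomotopyCategory.quotient B c) _ _).symm.trans
      (congrArg _ ((complexAdj adj c).left_triangle_components K.as))).trans
      (CategoryTheory.Functor.map_id _ _)
  right_triangle_components K :=
    ((Functor.map_comp (HomotopyCategory.quotient A c) _ _).symm.trans
      (congrArg _ ((complexAdj adj c).right_triangle_components K.as))).trans
      (CategoryTheory.Functor.map_id _ _)

/-- The adjunction on bounded below homotopy categories. -/
noncomputable def homotopyPlusAdj [HasZeroObject A] [HasZeroObject B] :
    L.mapHomotopyCategoryPlus ⊣ R.mapHomotopyCategoryPlus :=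
  (homotopyAdj adj (ComplexShape.up ℤ)).restrictFullyFaithful
    (HomotopyCategory.Plus.fullyFaithfulι A) (HomotopyCategory.Plus.fullyFaithfulι B)
    (Iso.refl _) (Iso.refl _)

section derived

variable {C₁ : Type u₁} {C₂ : Type u₂} {D₁ : Type u₃} {D₂ : Type u₄} [Category.{v₁} C₁]
  [Category.{v₂} C₂] [Category.{v₃} D₁] [Category.{v₄} D₂] {E : Type u₅} [Category.{v₅} E]
  {G : C₁ ⥤ C₂} {F : C₂ ⥤ C₁} (adj' : G ⊣ F)
  {L₁ : C₁ ⥤ D₁} {L₂ : C₂ ⥤ D₂} (W₁ : MorphismProperty C₁) {W₂ : MorphismProperty C₂}
  [L₁.IsLocalization W₁] [L₂.IsLocalization W₂]
  {G' : D₁ ⥤ D₂} {F' : D₂ ⥤ D₁}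
  (α : L₁ ⋙ G' ≅ G ⋙ L₂) (β : F ⋙ L₁ ⟶ L₂ ⋙ F')
  {W₀ : MorphismProperty E} (Φ : LocalizerMorphism W₀ W₂) [Φ.IsRightDerivabilityStructure]

/-- An adjunction whose left adjoint is exact descends to the derived functors. -/
noncomputable def derivedAdj [F'.IsRightDerivedFunctor β W₂] (h : Φ.Derives (F ⋙ L₁)) :
    G' ⊣ F' := by
  have : G'.IsLeftDerivedFunctor α.hom W₁ := Functor.isLeftDerivedFunctor_of_inverts W₁ _ α
  have : (G' ⋙ F').IsLeftDerivedFunctor
      ((Functor.associator _ _ _).inv ≫ Functor.whiskerRight α.hom F') W₁ :=
    Functor.isLeftDerivedFunctor_of_inverts W₁ _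
      ((Functor.associator _ _ _).symm ≪≫ Functor.isoWhiskerRight α F')
  have : (F' ⋙ G').IsRightDerivedFunctor
      (Functor.whiskerRight β G' ≫ (Functor.associator _ _ _).hom) W₂ := by
    have h' : Φ.Derives ((F ⋙ L₁) ⋙ G') := fun X Y f hf => by
      have : IsIso ((Φ.functor ⋙ F ⋙ L₁).map f) := h f hf
      exact inferInstanceAs (IsIso (G'.map ((Φ.functor ⋙ F ⋙ L₁).map f)))
    refine LocalizerMorphism.Derives.isRightDerivedFunctor_of_isIso h' _ fun X => ?_
    have := LocalizerMorphism.Derives.isIso_of_isRightDerivedFunctor h β X
    simp only [NatTrans.comp_app, Functor.associator_hom_app, Functor.whiskerRight_app,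
      Category.comp_id]
    infer_instance
  exact adj'.derived W₁ W₂ α.hom β

end derived

end Groth.Agent.DerAdj43
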